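import Mathlib
import Cfsg.Agent.Lib.helper3.STC.Defs
import Cfsg.Agent.Lib.Helper21.STCM.Calc
import Cfsg.Agent.Lib.Helper21.STCM.Weyl
import Cfsg.Agent.Lib.Helper21.STCM.Sys
import Cfsg.Agent.Lib.Helper21.STCM.Vec

/-!
# Project STC (helper3, S2292), block MAT part 5 (helper21): the elementary subgroup is transitive on
the nonzero vectors
-/

set_option autoImplicit false
set_option linter.unusedSectionVars false
set_option linter.unusedSimpArgs false

namespace Cfsg.Agent.Lib.helper3.STC.Mat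

open Cfsg.Agent.Lib.helper3.STC Cfsg.Agent.Lib.helper15.St2

open Matrix

variable {ι : Type*} [DecidableEq ι] [Fintype ι] {F : Type*} [Field F]

/-- the elementary subgroup: generated by all the `tm a b t` -/
noncomputable def Esp (ι : Type*) [DecidableEq ι] [Fintype ι] (F : Type*) [Field F] :
    Subgroup (symplecticGroup ι F) := (matSys ι F).XQ (fun _ _ => True)

lemma tm_mem_Esp {a b : ι ⊕ ι} (hab : a ≠ b) (t : F) : (tm a b t : symplecticGroup ι F) ∈ Esp ι F :=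
  Subgroup.subset_closure ⟨a, b, t, hab, trivial, rfl⟩

lemma tm_long_mulVec (a : ι ⊕ ι) (t : F) (v : ι ⊕ ι → F) :
    ((tm a (ng a) t : symplecticGroup ι F) : Matrix (ι ⊕ ι) (ι ⊕ ι) F) *ᵥ v
      = v + Pi.single a (t * v (ng a)) := by
  rw [tm_coe (ng_ne a).symm, Tm_long, TL_mulVec]

lemma tm_short_mulVec {a b : ι ⊕ ι} (hab : a ≠ b) (hb : b ≠ ng a) (t : F) (v : ι ⊕ ι → F) :
    ((tm a b t : symplecticGroup ι F) : Matrix (ι ⊕ ι) (ι ⊕ ι) F) *ᵥ v
      = v + Pi.single a (t * v b) - Pi.single (ng b) ((sg (K := F)) a * (sg (K := F)) b * t * v (ng a)) := by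
  rw [tm_coe hab, Tm_short hb, TS_mulVec]

/-- Lemma A: make the `o`-coordinate nonzero -/
lemma exists_coord_ne_zero (o : ι ⊕ ι) (v : ι ⊕ ι → F) (hv : v ≠ 0) :
    ∃ g ∈ Esp ι F, ((g : Matrix (ι ⊕ ι) (ι ⊕ ι) F) *ᵥ v) o ≠ 0 := by
  by_cases h : v o ≠ 0
  · exact ⟨1, Subgroup.one_mem _, by rw [coe_one_sp, Matrix.one_mulVec]; exact h⟩
  · rw [not_not] at h
    obtain ⟨c, hc⟩ : ∃ c, v c ≠ 0 := by
      by_contra hcon
      push_neg at hcon
      exact hv (funext hcon)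
    have hco : c ≠ o := fun e => hc (e ▸ h)
    by_cases hcn : c = ng o
    · subst hcn
      refine ⟨tm o (ng o) 1, tm_mem_Esp (ng_ne o).symm 1, ?_⟩
      rw [tm_long_mulVec]
      simp [h, hc]
    · refine ⟨tm o c 1, tm_mem_Esp hco.symm 1, ?_⟩
      rw [tm_short_mulVec hco.symm hcn]
      have : o ≠ ng c := fun e => hcn (by rw [e, ng_ng])
      simp [h, hc, this]

/-- the coordinates outside `{o, -o}` where `v` does not vanish -/
noncomputable def supp' (o : ι ⊕ ι) (v : ι ⊕ ι → F) : Finset (ι ⊕ ι) :=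
  haveI : DecidablePred (fun c : ι ⊕ ι => c ≠ o ∧ c ≠ ng o ∧ v c ≠ 0) := Classical.decPred _
  Finset.univ.filter (fun c => c ≠ o ∧ c ≠ ng o ∧ v c ≠ 0)

lemma mem_supp' (o : ι ⊕ ι) (v : ι ⊕ ι → F) (c : ι ⊕ ι) :
    c ∈ supp' o v ↔ c ≠ o ∧ c ≠ ng o ∧ v c ≠ 0 := by
  unfold supp'
  simp only [Finset.mem_filter, Finset.mem_univ, true_and]

/-- Lemma B: clear the coordinates outside `{o, -o}` -/
lemma exists_clear (o : ι ⊕ ι) : ∀ (n : ℕ) (v : ι ⊕ ι → F), v o ≠ 0 → (supp' o v).card = n →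
    ∃ g ∈ Esp ι F, ((g : Matrix (ι ⊕ ι) (ι ⊕ ι) F) *ᵥ v) o = v o ∧
      ∀ c, c ≠ o → c ≠ ng o → ((g : Matrix (ι ⊕ ι) (ι ⊕ ι) F) *ᵥ v) c = 0 := by
  intro n
  induction n with
  | zero =>
    intro v hvo hcard
    refine ⟨1, Subgroup.one_mem _, by rw [coe_one_sp, Matrix.one_mulVec], ?_⟩
    intro c hco hcn
    rw [coe_one_sp, Matrix.one_mulVec]
    by_contra hne
    have : c ∈ supp' o v := (mem_supp' o v c).2 ⟨hco, hcn, hne⟩
    rw [Finset.card_eq_zero.1 hcard] at this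
    exact absurd this (Finset.notMem_empty _)
  | succ n ih =>
    intro v hvo hcard
    have hne : (supp' o v).Nonempty := by
      rw [← Finset.card_pos, hcard]; exact Nat.succ_pos n
    obtain ⟨c, hc⟩ := hne
    obtain ⟨hco, hcn, hvc⟩ := (mem_supp' o v c).1 hc
    have hoc : o ≠ ng c := fun e => hcn (by rw [e, ng_ng])
    set t : F := -(v c) / v o with ht
    set v' : ι ⊕ ι → F := ((tm c o t : symplecticGroup ι F) : Matrix (ι ⊕ ι) (ι ⊕ ι) F) *ᵥ v with hv'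
    have hv'eq : v' = v + Pi.single c (t * v o)
        - Pi.single (ng o) ((sg (K := F)) c * (sg (K := F)) o * t * v (ng c)) := by
      rw [hv', tm_short_mulVec hco hoc]
    have h1 : v' c = 0 := by
      rw [hv'eq]
      simp only [Pi.add_apply, Pi.sub_apply, Pi.single_apply, if_pos rfl, if_neg hcn]
      rw [ht]; field_simp; simp
    have h2 : v' o = v o := by
      rw [hv'eq]
      simp only [Pi.add_apply, Pi.sub_apply, Pi.single_apply, if_neg hco.symm, if_neg (ng_ne o).symm]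
      ring
    have h3 : ∀ d, d ≠ c → d ≠ ng o → v' d = v d := by
      intro d hdc hdn
      rw [hv'eq]
      simp only [Pi.add_apply, Pi.sub_apply, Pi.single_apply, if_neg hdc, if_neg hdn]
      ring
    have hsupp : supp' o v' = (supp' o v).erase c := by
      ext d
      simp only [mem_supp', Finset.mem_erase]
      constructor
      · rintro ⟨hdo, hdn, hd⟩
        have hdc : d ≠ c := fun e => hd (e ▸ h1)
        exact ⟨hdc, hdo, hdn, by rw [← h3 d hdc hdn]; exact hd⟩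
      · rintro ⟨hdc, hdo, hdn, hd⟩
        exact ⟨hdo, hdn, by rw [h3 d hdc hdn]; exact hd⟩
    have hcard' : (supp' o v').card = n := by
      rw [hsupp, Finset.card_erase_of_mem hc, hcard]; rfl
    obtain ⟨g, hg, hgo, hgc⟩ := ih v' (by rw [h2]; exact hvo) hcard'
    refine ⟨g * tm c o t, (Esp ι F).mul_mem hg (tm_mem_Esp hco t), ?_, ?_⟩
    · rw [coe_mul_sp, ← Matrix.mulVec_mulVec, ← hv', hgo, h2]
    · intro d hdo hdn
      rw [coe_mul_sp, ← Matrix.mulVec_mulVec, ← hv']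
      exact hgc d hdo hdn

/-- Lemma C: a vector supported on `{o, -o}` with nonzero `o`-coordinate goes to `e_o` -/
lemma exists_plane (o : ι ⊕ ι) (v : ι ⊕ ι → F) (hvo : v o ≠ 0)
    (hv : ∀ c, c ≠ o → c ≠ ng o → v c = 0) :
    ∃ g ∈ Esp ι F, (g : Matrix (ι ⊕ ι) (ι ⊕ ι) F) *ᵥ v = Pi.single o 1 := by
  have hno : ng o ≠ o := ng_ne o
  -- step 1: `(lam, mu) ↦ (lam, 1)`
  set v1 : ι ⊕ ι → F := ((tm (ng o) o ((1 - v (ng o)) / v o) : symplecticGroup ι F) :
    Matrix (ι ⊕ ι) (ι ⊕ ι) F) *ᵥ v with hv1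
  have hv1eq : v1 = v + Pi.single (ng o) ((1 - v (ng o)) / v o * v o) := by
    have := tm_long_mulVec (F := F) (ng o) ((1 - v (ng o)) / v o) v
    rw [ng_ng] at this
    rw [hv1, this]
  have h1o : v1 o = v o := by
    rw [hv1eq]; simp [Pi.single_apply, hno.symm]
  have h1n : v1 (ng o) = 1 := by
    rw [hv1eq]; simp only [Pi.add_apply, Pi.single_apply, if_true]
    field_simp; ring
  have h1c : ∀ c, c ≠ o → c ≠ ng o → v1 c = 0 := by
    intro c hco hcn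
    rw [hv1eq]; simp [Pi.single_apply, hcn, hv c hco hcn]
  -- step 2: `(lam, 1) ↦ (1, 1)`
  set v2 : ι ⊕ ι → F := ((tm o (ng o) (1 - v o) : symplecticGroup ι F) :
    Matrix (ι ⊕ ι) (ι ⊕ ι) F) *ᵥ v1 with hv2
  have hv2eq : v2 = v1 + Pi.single o ((1 - v o) * v1 (ng o)) := by
    rw [hv2, tm_long_mulVec]
  have h2o : v2 o = 1 := by
    rw [hv2eq]; simp only [Pi.add_apply, Pi.single_apply, if_true]
    rw [h1o, h1n]; ring
  have h2n : v2 (ng o) = 1 := by
    rw [hv2eq]; simp [Pi.single_apply, hno, h1n]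
  have h2c : ∀ c, c ≠ o → c ≠ ng o → v2 c = 0 := by
    intro c hco hcn
    rw [hv2eq]; simp [Pi.single_apply, hco, h1c c hco hcn]
  -- step 3: `(1, 1) ↦ (1, 0)`
  set v3 : ι ⊕ ι → F := ((tm (ng o) o (-1) : symplecticGroup ι F) :
    Matrix (ι ⊕ ι) (ι ⊕ ι) F) *ᵥ v2 with hv3
  have hv3eq : v3 = v2 + Pi.single (ng o) (-1 * v2 o) := by
    have := tm_long_mulVec (F := F) (ng o) (-1) v2
    rw [ng_ng] at this
    rw [hv3, this]
  have h3 : v3 = Pi.single o 1 := by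
    ext c
    rw [hv3eq]
    simp only [Pi.add_apply, Pi.single_apply]
    by_cases hco : c = o
    · subst hco; simp [hno.symm, h2o]
    · by_cases hcn : c = ng o
      · subst hcn; simp [hno, h2n, h2o]
      · simp [hco, hcn, h2c c hco hcn]
  refine ⟨tm (ng o) o (-1) * (tm o (ng o) (1 - v o) * tm (ng o) o ((1 - v (ng o)) / v o)), ?_, ?_⟩
  · exact (Esp ι F).mul_mem (tm_mem_Esp hno _) ((Esp ι F).mul_mem (tm_mem_Esp hno.symm _) (tm_mem_Esp hno _))
  · rw [coe_mul_sp, coe_mul_sp, ← Matrix.mulVec_mulVec, ← Matrix.mulVec_mulVec, ← hv1, ← hv2, ← hv3, h3]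

/-- **the elementary subgroup is transitive on the nonzero vectors** -/
theorem Esp_transitive (o : ι ⊕ ι) (v : ι ⊕ ι → F) (hv : v ≠ 0) :
    ∃ g ∈ Esp ι F, (g : Matrix (ι ⊕ ι) (ι ⊕ ι) F) *ᵥ v = Pi.single o 1 := by
  obtain ⟨g1, hg1, h1⟩ := exists_coord_ne_zero o v hv
  obtain ⟨g2, hg2, h2o, h2c⟩ := exists_clear o _ ((g1 : Matrix (ι ⊕ ι) (ι ⊕ ι) F) *ᵥ v) h1 rfl
  obtain ⟨g3, hg3, h3⟩ := exists_plane o _ (by rw [h2o]; exact h1) h2c
  refine ⟨g3 * (g2 * g1), (Esp ι F).mul_mem hg3 ((Esp ι F).mul_mem hg2 hg1), ?_⟩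
  rw [coe_mul_sp, coe_mul_sp, ← Matrix.mulVec_mulVec, ← Matrix.mulVec_mulVec, h3]

/-- the inverse form: every nonzero vector is `g e_o` -/
theorem Esp_transitive' (o : ι ⊕ ι) (v : ι ⊕ ι → F) (hv : v ≠ 0) :
    ∃ g ∈ Esp ι F, (g : Matrix (ι ⊕ ι) (ι ⊕ ι) F) *ᵥ Pi.single o 1 = v := by
  obtain ⟨g, hg, h⟩ := Esp_transitive o v hv
  refine ⟨g⁻¹, (Esp ι F).inv_mem hg, ?_⟩
  rw [← h, Matrix.mulVec_mulVec, ← coe_mul_sp, inv_mul_cancel, coe_one_sp, Matrix.one_mulVec]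

end Cfsg.Agent.Lib.helper3.STC.Mat
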