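import Mathlib
import Cfsg.Prelude.Def_ClassicalGeometry
import Cfsg.Agent.S0765
import Cfsg.Agent.Lib.helper3.STC.Defs
import Cfsg.Agent.Lib.Helper21.STCM.Calc
import Cfsg.Agent.Lib.Helper21.STCM.Weyl
import Cfsg.Agent.Lib.Helper21.STCM.Sys
import Cfsg.Agent.Lib.Helper21.STCM.Vec
import Cfsg.Agent.Lib.Helper21.STCM.Gen

/-!
# Project STC (helper3, S2292), block MAT part 6 (helper21): `Sp_{2m}(F)` is generated by the elementary
symplectic matrices (from the landed S0765 = generation by the symplectic transvections, and the transitivity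
of the elementary subgroup on the nonzero vectors)
-/

set_option autoImplicit false
set_option linter.unusedSectionVars false
set_option linter.unusedSimpArgs false

namespace Cfsg.Agent.Lib.helper3.STC.Mat

open Cfsg.Agent.Lib.helper3.STC Cfsg.Agent.Lib.helper15.St2

open Matrix

variable {F : Type*} [Field F]

/-- conjugating a symplectic transvection: `T_{g w, c} g = g T_{w, c}` -/
lemma sympTransvection_conj (m : ℕ) (g : symplecticGroup (Fin m) F) (w : Fin m ⊕ Fin m → F) (c : F) :
    Cfsg.sympTransvection m ((g : Matrix (Fin m ⊕ Fin m) (Fin m ⊕ Fin m) F) *ᵥ w) c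
        * (g : Matrix (Fin m ⊕ Fin m) (Fin m ⊕ Fin m) F)
      = (g : Matrix (Fin m ⊕ Fin m) (Fin m ⊕ Fin m) F) * Cfsg.sympTransvection m w c := by
  have hM : (g : Matrix (Fin m ⊕ Fin m) (Fin m ⊕ Fin m) F)ᵀ * J (Fin m) F
      * (g : Matrix (Fin m ⊕ Fin m) (Fin m ⊕ Fin m) F) = J (Fin m) F :=
    SymplecticGroup.mem_iff'.1 g.2
  unfold Cfsg.sympTransvection
  rw [add_mul, mul_add, one_mul, mul_one, Matrix.smul_mul, Matrix.mul_smul, Matrix.vecMulVec_mul,
    Matrix.mul_vecMulVec]
  congr 3
  rw [← Matrix.mulVec_transpose, Matrix.mulVec_mulVec, Matrix.mulVec_mulVec, hM]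

/-- the transvection of a basis vector is a long root element -/
lemma sympTransvection_single (m : ℕ) (o : Fin m ⊕ Fin m) (c : F) :
    Cfsg.sympTransvection m (Pi.single o 1) c = TL o (c * (sg (K := F)) o) := by
  unfold Cfsg.sympTransvection TL
  congr 1
  ext i j
  simp only [Matrix.smul_apply, Matrix.vecMulVec_apply, Matrix.mulVec_single_one, Matrix.single_apply,
    Pi.single_apply, Matrix.col_apply, J_apply, smul_eq_mul]
  by_cases hi : i = o
  · subst hi
    by_cases hj : j = ng i
    · subst hj
      simp [sg_ng]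
    · have : ¬ (i = ng j) := fun e => hj (by rw [e, ng_ng])
      simp [hj, this, Ne.symm hj]
  · simp [hi, Ne.symm hi]

/-- **generation**: `Sp_{2m}(F)` is generated by the elementary symplectic matrices -/
theorem Esp_eq_top (m : ℕ) : Esp (Fin m) F = ⊤ := by
  rw [eq_top_iff, ← Cfsg.Agent.S0765.result (F := F) m, Subgroup.closure_le]
  rintro A ⟨w, c, hA⟩
  rw [SetLike.mem_coe]
  by_cases hw : w = 0
  · have : A = 1 := by
      apply Subtype.ext
      rw [hA, hw]
      unfold Cfsg.sympTransvection
      simp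
    rw [this]; exact Subgroup.one_mem _
  · rcases isEmpty_or_nonempty (Fin m ⊕ Fin m) with he | ⟨⟨o⟩⟩
    · exact absurd (funext fun i => (he.false i).elim) hw
    · obtain ⟨g, hg, hgo⟩ := Esp_transitive' o w hw
      have hno : o ≠ ng o := (ng_ne o).symm
      have key : A * g = g * tm o (ng o) (c * (sg (K := F)) o) := by
        apply Subtype.ext
        rw [coe_mul_sp, coe_mul_sp, hA, tm_coe hno, Tm_long, ← sympTransvection_single, ← hgo]
        exact sympTransvection_conj m g (Pi.single o 1) c
      have : A = g * tm o (ng o) (c * (sg (K := F)) o) * g⁻¹ := by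
        rw [← key]; group
      rw [this]
      exact (Esp (Fin m) F).mul_mem ((Esp (Fin m) F).mul_mem hg (tm_mem_Esp hno _)) ((Esp (Fin m) F).inv_mem hg)

/-- in the shape of the hypothesis `hgen` of the injectivity theorem -/
theorem matSys_gen (m : ℕ) : (matSys (Fin m) F).XQ (fun _ _ => True) = ⊤ := Esp_eq_top m

end Cfsg.Agent.Lib.helper3.STC.Mat
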