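import Mathlib
import Cfsg.Agent.Lib.helper3.STC.Defs
import Cfsg.Agent.Lib.helper3.STC.Defs2
import Cfsg.Agent.Lib.Helper21.STCM.Calc
import Cfsg.Agent.Lib.Helper21.STCM.Weyl
import Cfsg.Agent.Lib.Helper21.STCM.Sys
import Cfsg.Agent.Lib.Helper21.STCM.Vec

/-!
# Project STC / SPM (helper3, S2292), block MAT part 7 (helper21): embeddings `Sp(κ) → Sp(l)` and permutation matrices

For the gluing layer (SPM: `S_m` + `Sp_4` inside `Sp_2m`).  Everything on general index types.

* `incl e` : the inclusion matrix of `e : κ ↪ l` on signed indices; `incl_tr_mul`, `J_mul_incl`, `incl_single`, `incl_trans`.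
* `emb e M = 1 + incl e * (M - 1) * (incl e)ᵀ`, `embSp e : Sp(κ) →* Sp(l)`; `emb_Tm`, `embSp_tm` (root elements go to root elements),
  `emb_trans`, `emb_injective`, `embSp_injective`, `emb_mulVec_single_of_not_range`, `emb_mulVec_single_Em`,
  `embSp_comm_of_disjoint` (disjoint supports commute).
* `permM σ`, `permSp : Perm l →* Sp(l)` (the permutation matrices `diag(P, P)`); `permSp_conj_embSp`
  (`permSp σ * embSp e M * (permSp σ)⁻¹ = embSp (e.trans σ) M`), `permSp_comm_embSp` (a permutation fixing the support commutes),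
  `permSp_conj_tm`, `embSp_permSp` (`embSp e (permSp τ) = permSp (τ.viaEmbedding e)`).
* `tm_mem_closure_perm_emb`, `closure_perm_emb_eq_top`: `Sp(l)` is generated by the permutation matrices and one embedded `Sp(κ)`, `|κ| ≥ 2`.
-/

set_option autoImplicit false
set_option linter.unusedSectionVars false
set_option linter.unusedSimpArgs false

namespace Cfsg.Agent.Lib.helper3.STC.Mat

open Cfsg.Agent.Lib.helper3.STC Cfsg.Agent.Lib.helper15.St2

open Matrix

variable {κ : Type*} [DecidableEq κ] [Fintype κ] {l : Type*} [DecidableEq l] [Fintype l]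
  {F : Type*} [Field F]

/-- the inclusion matrix of an embedding of index types -/
def incl0 (e : κ ↪ l) : Matrix l κ F := fun a b => if a = e b then 1 else 0

/-- the inclusion matrix of an embedding of index types, on signed indices -/
def incl (e : κ ↪ l) : Matrix (l ⊕ l) (κ ⊕ κ) F := fromBlocks (incl0 e) 0 0 (incl0 e)

lemma incl0_tr_mul (e : κ ↪ l) : (incl0 (F := F) e)ᵀ * incl0 (F := F) e = (1 : Matrix κ κ F) := by
  ext a b
  simp only [Matrix.mul_apply, Matrix.transpose_apply, incl0, Matrix.one_apply]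
  simp only [mul_ite, mul_one, mul_zero]
  rw [Finset.sum_ite_eq']
  simp only [Finset.mem_univ, if_true, EmbeddingLike.apply_eq_iff_eq]
  by_cases h : a = b
  · subst h; simp
  · rw [if_neg h, if_neg (fun h' => h h'.symm)]

lemma incl_tr_mul (e : κ ↪ l) : (incl (F := F) e)ᵀ * incl (F := F) e = (1 : Matrix (κ ⊕ κ) (κ ⊕ κ) F) := by
  unfold incl
  rw [Matrix.fromBlocks_transpose, Matrix.fromBlocks_multiply]
  simp only [Matrix.transpose_zero, Matrix.zero_mul, Matrix.mul_zero, add_zero, zero_add, incl0_tr_mul,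
    Matrix.fromBlocks_one]

lemma J_mul_incl (e : κ ↪ l) :
    (J l F * incl (F := F) e : Matrix (l ⊕ l) (κ ⊕ κ) F) = incl (F := F) e * J κ F := by
  unfold incl J
  rw [Matrix.fromBlocks_multiply, Matrix.fromBlocks_multiply]
  simp

lemma incl_tr_mul_J (e : κ ↪ l) :
    ((incl (F := F) e)ᵀ * J l F : Matrix (κ ⊕ κ) (l ⊕ l) F) = J κ F * (incl (F := F) e)ᵀ := by
  have h := congrArg Matrix.transpose (J_mul_incl (F := F) e)
  rw [Matrix.transpose_mul, Matrix.transpose_mul, Matrix.J_transpose, Matrix.J_transpose] at h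
  simpa using h

lemma incl_apply (e : κ ↪ l) (a : l ⊕ l) (b : κ ⊕ κ) :
    (incl e : Matrix (l ⊕ l) (κ ⊕ κ) F) a b = if a = Em e b then 1 else 0 := by
  unfold incl incl0 Em
  rcases a with a | a <;> rcases b with b | b <;> simp [Matrix.fromBlocks]


lemma mat_Em_ng (e : κ ↪ l) (a : κ ⊕ κ) : Em e (ng a) = ng (Em e a) := by
  rcases a with a | a <;> rfl

lemma mat_sg_Em (e : κ ↪ l) (a : κ ⊕ κ) : (sg (K := F)) (Em e a) = (sg (K := F)) a := by
  rcases a with a | a <;> rfl

lemma mat_Em_inj (e : κ ↪ l) {a b : κ ⊕ κ} : Em e a = Em e b ↔ a = b := by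
  unfold Em
  constructor
  · intro h
    exact (Sum.map_injective.mpr ⟨e.injective, e.injective⟩) h
  · rintro rfl; rfl

lemma incl_mul_single (e : κ ↪ l) (a : κ ⊕ κ) {n : Type*} [DecidableEq n] [Fintype n] (b : n) (t : F) :
    incl (F := F) e * Matrix.single a b t = Matrix.single (Em e a) b t := by
  ext x y
  simp only [Matrix.mul_apply, incl_apply, Matrix.single_apply]
  by_cases hy : b = y
  · subst hy
    simp only [and_true, ite_mul, one_mul, zero_mul]
    rw [Finset.sum_eq_single a]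
    · simp only [if_true]
      by_cases hx : x = Em e a
      · subst hx; simp
      · rw [if_neg hx, if_neg (fun h => hx h.symm)]
    · intro c _ hc
      have : ¬ (a = c) := fun h => hc h.symm
      simp [this]
    · intro h; exact absurd (Finset.mem_univ a) h
  · simp [hy]

lemma single_mul_incl_tr (e : κ ↪ l) {n : Type*} [DecidableEq n] [Fintype n] (a : n) (b : κ ⊕ κ) (t : F) :
    Matrix.single a b t * (incl (F := F) e)ᵀ = Matrix.single a (Em e b) t := by
  ext x y
  simp only [Matrix.mul_apply, Matrix.transpose_apply, incl_apply, Matrix.single_apply]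
  by_cases hx : a = x
  · subst hx
    simp only [true_and, mul_ite, mul_one, mul_zero]
    rw [Finset.sum_eq_single b]
    · simp only [if_true]
      by_cases hy : y = Em e b
      · subst hy; simp
      · rw [if_neg hy, if_neg (fun h => hy h.symm)]
    · intro c _ hc
      have : ¬ (b = c) := fun h => hc h.symm
      simp [this]
    · intro h; exact absurd (Finset.mem_univ b) h
  · simp [hx]

lemma incl_single (e : κ ↪ l) (a b : κ ⊕ κ) (t : F) :
    incl (F := F) e * Matrix.single a b t * (incl (F := F) e)ᵀ = Matrix.single (Em e a) (Em e b) t := by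
  rw [incl_mul_single, single_mul_incl_tr]

lemma incl_mulVec_single (e : κ ↪ l) (c : κ ⊕ κ) (t : F) :
    incl (F := F) e *ᵥ Pi.single c t = Pi.single (Em e c) t := by
  ext x
  simp only [Matrix.mulVec, dotProduct, incl_apply, Pi.single_apply]
  rw [Finset.sum_eq_single c]
  · simp only [if_true]
    by_cases hx : x = Em e c
    · subst hx; simp
    · rw [if_neg hx, if_neg hx]; simp
  · intro b _ hb
    rw [if_neg hb]; simp
  · intro h; exact absurd (Finset.mem_univ c) h

/-- extension of a matrix by the identity along an embedding of the index types -/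
def emb (e : κ ↪ l) (M : Matrix (κ ⊕ κ) (κ ⊕ κ) F) : Matrix (l ⊕ l) (l ⊕ l) F :=
  1 + incl (F := F) e * (M - 1) * (incl (F := F) e)ᵀ

lemma emb_one (e : κ ↪ l) : emb (F := F) e 1 = 1 := by
  simp [emb]

lemma emb_mul (e : κ ↪ l) (M N : Matrix (κ ⊕ κ) (κ ⊕ κ) F) : emb e (M * N) = emb e M * emb e N := by
  unfold emb
  have h : ∀ A B : Matrix (κ ⊕ κ) (κ ⊕ κ) F,
      incl (F := F) e * A * (incl (F := F) e)ᵀ * (incl (F := F) e * B * (incl (F := F) e)ᵀ) =
        incl (F := F) e * (A * B) * (incl (F := F) e)ᵀ := by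
    intro A B
    calc incl (F := F) e * A * (incl (F := F) e)ᵀ * (incl (F := F) e * B * (incl (F := F) e)ᵀ)
        = incl (F := F) e * A * ((incl (F := F) e)ᵀ * incl (F := F) e) * B * (incl (F := F) e)ᵀ := by
          simp only [Matrix.mul_assoc]
      _ = incl (F := F) e * (A * B) * (incl (F := F) e)ᵀ := by
          rw [incl_tr_mul, Matrix.mul_one]; simp only [Matrix.mul_assoc]
  rw [Matrix.add_mul, Matrix.mul_add, Matrix.mul_add, Matrix.one_mul, Matrix.one_mul, Matrix.mul_one, h]
  have h2 : M * N - 1 = (M - 1) + (N - 1) + (M - 1) * (N - 1) := by noncomm_ring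
  rw [h2, Matrix.mul_add, Matrix.mul_add, Matrix.add_mul, Matrix.add_mul]
  abel


lemma emb_transpose (e : κ ↪ l) (M : Matrix (κ ⊕ κ) (κ ⊕ κ) F) : (emb e M)ᵀ = emb e Mᵀ := by
  unfold emb
  simp only [Matrix.transpose_add, Matrix.transpose_one, Matrix.transpose_mul, Matrix.transpose_transpose,
    Matrix.transpose_sub, Matrix.mul_assoc]

lemma emb_mem (e : κ ↪ l) {M : Matrix (κ ⊕ κ) (κ ⊕ κ) F} (hM : M ∈ symplecticGroup κ F) :
    emb e M ∈ symplecticGroup l F := by
  rw [SymplecticGroup.mem_iff] at hM ⊢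
  rw [emb_transpose]
  unfold emb
  set E := incl (F := F) e with hE
  have h1 : Eᵀ * J l F = J κ F * Eᵀ := incl_tr_mul_J e
  have h2 : J l F * E = E * J κ F := J_mul_incl e
  have h3 : Eᵀ * E = 1 := incl_tr_mul e
  have key : (1 + E * (M - 1) * Eᵀ) * J l F * (1 + E * (Mᵀ - 1) * Eᵀ) =
      J l F + E * ((M - 1) * J κ F + J κ F * (Mᵀ - 1) + (M - 1) * J κ F * (Mᵀ - 1)) * Eᵀ := by
    have e1 : E * (M - 1) * Eᵀ * J l F = E * ((M - 1) * J κ F) * Eᵀ := by
      rw [Matrix.mul_assoc, h1]; simp only [Matrix.mul_assoc]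
    have e2 : J l F * (E * (Mᵀ - 1) * Eᵀ) = E * (J κ F * (Mᵀ - 1)) * Eᵀ := by
      rw [← Matrix.mul_assoc, ← Matrix.mul_assoc, h2]; simp only [Matrix.mul_assoc]
    have e3 : E * ((M - 1) * J κ F) * Eᵀ * (E * (Mᵀ - 1) * Eᵀ) = E * ((M - 1) * J κ F * (Mᵀ - 1)) * Eᵀ := by
      calc E * ((M - 1) * J κ F) * Eᵀ * (E * (Mᵀ - 1) * Eᵀ)
          = E * ((M - 1) * J κ F) * (Eᵀ * E) * (Mᵀ - 1) * Eᵀ := by simp only [Matrix.mul_assoc]
        _ = E * ((M - 1) * J κ F * (Mᵀ - 1)) * Eᵀ := by
            rw [h3, Matrix.mul_one]; simp only [Matrix.mul_assoc]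
    rw [Matrix.add_mul, Matrix.one_mul, Matrix.add_mul, Matrix.mul_add, Matrix.mul_add, Matrix.mul_one, e1, e2, e3, Matrix.mul_one]
    simp only [Matrix.mul_add, Matrix.add_mul]
    abel
  rw [key]
  have h4 : (M - 1) * J κ F + J κ F * (Mᵀ - 1) + (M - 1) * J κ F * (Mᵀ - 1) = M * J κ F * Mᵀ - J κ F := by
    noncomm_ring
  rw [h4, hM, sub_self, Matrix.mul_zero, Matrix.zero_mul, add_zero]

/-- the embedding `Sp(κ) → Sp(l)` along an embedding of the index types -/
noncomputable def embSp (e : κ ↪ l) : symplecticGroup κ F →* symplecticGroup l F where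
  toFun M := ⟨emb e (M : Matrix (κ ⊕ κ) (κ ⊕ κ) F), emb_mem e M.2⟩
  map_one' := by
    apply Subtype.ext
    exact emb_one e
  map_mul' M N := by
    apply Subtype.ext
    exact emb_mul e _ _

lemma embSp_coe (e : κ ↪ l) (M : symplecticGroup κ F) :
    ((embSp e M : symplecticGroup l F) : Matrix (l ⊕ l) (l ⊕ l) F) = emb e (M : Matrix (κ ⊕ κ) (κ ⊕ κ) F) := rfl

lemma emb_Tm (e : κ ↪ l) (a b : κ ⊕ κ) (t : F) : emb e (Tm a b t) = Tm (Em e a) (Em e b) t := by
  unfold emb Tm
  by_cases h : b = ng a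
  · have h' : Em e b = ng (Em e a) := by rw [h, mat_Em_ng]
    rw [if_pos h, if_pos h', add_sub_cancel_left, incl_single]
  · have h' : ¬ Em e b = ng (Em e a) := by
      rw [← mat_Em_ng, mat_Em_inj]; exact h
    rw [if_neg h, if_neg h']
    have : (1 + Matrix.single a b t - Matrix.single (ng b) (ng a) (sg a * sg b * t) - 1 :
        Matrix (κ ⊕ κ) (κ ⊕ κ) F) = Matrix.single a b t - Matrix.single (ng b) (ng a) (sg a * sg b * t) := by
      abel
    rw [this, Matrix.mul_sub, Matrix.sub_mul, incl_single, incl_single, mat_Em_ng, mat_Em_ng, mat_sg_Em, mat_sg_Em]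
    abel


lemma embSp_tm (e : κ ↪ l) {a b : κ ⊕ κ} (hab : a ≠ b) (t : F) :
    embSp e (tm a b t) = (tm (Em e a) (Em e b) t : symplecticGroup l F) := by
  apply Subtype.ext
  rw [embSp_coe, tm_coe hab, tm_coe (fun h => hab ((mat_Em_inj e).mp h)), emb_Tm]

lemma mat_Em_trans {m : Type*} (e : κ ↪ l) (e' : l ↪ m) (a : κ ⊕ κ) : Em (e.trans e') a = Em e' (Em e a) := by
  rcases a with a | a <;> rfl

lemma incl_trans {m : Type*} [DecidableEq m] [Fintype m] (e : κ ↪ l) (e' : l ↪ m) :
    incl (F := F) (e.trans e') = incl (F := F) e' * incl (F := F) e := by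
  ext x y
  rw [Matrix.mul_apply, incl_apply]
  simp only [incl_apply]
  rw [Finset.sum_eq_single (Em e y)]
  · simp only [if_true, mul_one, mat_Em_trans]
  · intro b _ hb
    rw [if_neg hb, mul_zero]
  · intro h; exact absurd (Finset.mem_univ _) h

lemma emb_trans {m : Type*} [DecidableEq m] [Fintype m] (e : κ ↪ l) (e' : l ↪ m)
    (M : Matrix (κ ⊕ κ) (κ ⊕ κ) F) : emb (e.trans e') M = emb e' (emb e M) := by
  unfold emb
  rw [add_sub_cancel_left, incl_trans, Matrix.transpose_mul]
  simp only [Matrix.mul_assoc]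

/-- the permutation matrix of `σ` acting on both halves -/
def permM (σ : Equiv.Perm l) : Matrix (l ⊕ l) (l ⊕ l) F := incl (F := F) σ.toEmbedding

lemma permM_apply (σ : Equiv.Perm l) (a b : l ⊕ l) :
    (permM (F := F) σ) a b = if a = Sum.map σ σ b then 1 else 0 := by
  unfold permM
  rw [incl_apply]
  rfl

lemma permM_one : permM (F := F) (1 : Equiv.Perm l) = 1 := by
  ext a b
  rw [permM_apply, Matrix.one_apply]
  have : Sum.map (1 : Equiv.Perm l) (1 : Equiv.Perm l) b = b := by
    rcases b with b | b <;> rfl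
  rw [this]

lemma permM_mul (σ τ : Equiv.Perm l) : permM (F := F) (σ * τ) = permM σ * permM τ := by
  unfold permM
  rw [← incl_trans]
  rfl

lemma permM_tr_mul (σ : Equiv.Perm l) : (permM (F := F) σ)ᵀ * permM σ = 1 := incl_tr_mul _

lemma permM_inv (σ : Equiv.Perm l) : permM (F := F) σ⁻¹ = (permM σ)ᵀ := by
  have h1 : permM (F := F) σ⁻¹ * permM σ = 1 := by rw [← permM_mul, inv_mul_cancel, permM_one]
  have h2 : permM (F := F) σ * permM σ⁻¹ = 1 := by rw [← permM_mul, mul_inv_cancel, permM_one]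
  calc permM (F := F) σ⁻¹ = (permM σ)ᵀ * permM σ * permM σ⁻¹ := by rw [permM_tr_mul, Matrix.one_mul]
    _ = (permM σ)ᵀ := by rw [Matrix.mul_assoc, h2, Matrix.mul_one]

lemma permM_mul_tr (σ : Equiv.Perm l) : permM (F := F) σ * (permM σ)ᵀ = 1 := by
  rw [← permM_inv, ← permM_mul, mul_inv_cancel, permM_one]

lemma permM_mem (σ : Equiv.Perm l) : permM (F := F) σ ∈ symplecticGroup l F := by
  rw [SymplecticGroup.mem_iff]
  have h := J_mul_incl (F := F) σ.toEmbedding
  change J l F * permM σ = permM σ * J l F at h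
  rw [← h, Matrix.mul_assoc, permM_mul_tr, Matrix.mul_one]

/-- the permutation matrices as a subgroup `Sym(l) → Sp(l)` -/
noncomputable def permSp : Equiv.Perm l →* symplecticGroup l F where
  toFun σ := ⟨permM σ, permM_mem σ⟩
  map_one' := Subtype.ext permM_one
  map_mul' σ τ := Subtype.ext (permM_mul σ τ)

lemma permSp_coe (σ : Equiv.Perm l) :
    ((permSp σ : symplecticGroup l F) : Matrix (l ⊕ l) (l ⊕ l) F) = permM σ := rfl

lemma permM_mulVec_single (σ : Equiv.Perm l) (c : l ⊕ l) (t : F) :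
    permM (F := F) σ *ᵥ Pi.single c t = Pi.single (Sum.map σ σ c) t :=
  incl_mulVec_single _ c t

/-- conjugation of an embedded matrix by a permutation matrix -/
lemma permM_conj_emb (σ : Equiv.Perm l) (e : κ ↪ l) (M : Matrix (κ ⊕ κ) (κ ⊕ κ) F) :
    permM (F := F) σ * emb e M * (permM σ)ᵀ = emb (e.trans σ.toEmbedding) M := by
  unfold emb
  rw [Matrix.mul_add, Matrix.add_mul, Matrix.mul_one, permM_mul_tr, incl_trans, Matrix.transpose_mul]
  unfold permM
  simp only [Matrix.mul_assoc]

lemma permSp_conj_embSp (σ : Equiv.Perm l) (e : κ ↪ l) (M : symplecticGroup κ F) :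
    permSp σ * embSp e M * (permSp σ)⁻¹ = embSp (e.trans σ.toEmbedding) M := by
  apply Subtype.ext
  rw [← map_inv, coe_mul_sp, coe_mul_sp, permSp_coe, permSp_coe, embSp_coe, embSp_coe, permM_inv, permM_conj_emb]

lemma permSp_comm_embSp (σ : Equiv.Perm l) (e : κ ↪ l) (h : ∀ k, σ (e k) = e k) (M : symplecticGroup κ F) :
    permSp σ * embSp e M = embSp e M * permSp σ := by
  have h1 := permSp_conj_embSp (F := F) σ e M
  have h2 : e.trans σ.toEmbedding = e := by
    ext k; exact h k
  rw [h2] at h1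
  exact mul_inv_eq_iff_eq_mul.mp h1

lemma permSp_conj_tm (σ : Equiv.Perm l) {a b : l ⊕ l} (hab : a ≠ b) (t : F) :
    permSp σ * tm a b t * (permSp σ)⁻¹ = (tm (Sum.map σ σ a) (Sum.map σ σ b) t : symplecticGroup l F) := by
  have h := embSp_tm (F := F) σ.toEmbedding hab t
  apply Subtype.ext
  rw [← map_inv, coe_mul_sp, coe_mul_sp, permSp_coe, permSp_coe, permM_inv, tm_coe hab]
  have hab' : Sum.map σ σ a ≠ Sum.map σ σ b := fun h' => hab ((mat_Em_inj σ.toEmbedding).mp h')
  rw [tm_coe hab']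
  have h3 := permM_conj_emb (F := F) σ (Function.Embedding.refl l) (Tm a b t)
  have h4 : emb (F := F) (Function.Embedding.refl l) (Tm a b t) = Tm a b t := by
    rw [emb_Tm]
    congr 1
    · rcases a with a | a <;> rfl
    · rcases b with b | b <;> rfl
  rw [h4] at h3
  rw [h3, emb_Tm]
  rfl


/-- embeddings with disjoint ranges: the inclusion matrices are orthogonal -/
lemma incl_tr_mul_of_disjoint {κ' : Type*} [DecidableEq κ'] [Fintype κ'] (e : κ ↪ l) (e' : κ' ↪ l)
    (h : ∀ a b, e a ≠ e' b) : (incl (F := F) e)ᵀ * incl (F := F) e' = 0 := by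
  ext x y
  rw [Matrix.mul_apply]
  simp only [Matrix.transpose_apply, incl_apply, Matrix.zero_apply]
  apply Finset.sum_eq_zero
  intro c _
  by_cases h1 : c = Em e x
  · by_cases h2 : c = Em e' y
    · exfalso
      rw [h1] at h2
      rcases x with x | x <;> rcases y with y | y <;> simp [Em] at h2
      · exact h x y h2
      · exact h x y h2
    · rw [if_neg h2, mul_zero]
  · rw [if_neg h1, zero_mul]

lemma emb_comm_of_disjoint {κ' : Type*} [DecidableEq κ'] [Fintype κ'] (e : κ ↪ l) (e' : κ' ↪ l)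
    (h : ∀ a b, e a ≠ e' b) (M : Matrix (κ ⊕ κ) (κ ⊕ κ) F) (N : Matrix (κ' ⊕ κ') (κ' ⊕ κ') F) :
    emb e M * emb e' N = emb e' N * emb e M := by
  unfold emb
  have h1 := incl_tr_mul_of_disjoint (F := F) e e' h
  have h2 := incl_tr_mul_of_disjoint (F := F) e' e (fun a b => (h b a).symm)
  have z1 : incl (F := F) e * (M - 1) * (incl (F := F) e)ᵀ * (incl (F := F) e' * (N - 1) * (incl (F := F) e')ᵀ) = 0 := by
    calc incl (F := F) e * (M - 1) * (incl (F := F) e)ᵀ * (incl (F := F) e' * (N - 1) * (incl (F := F) e')ᵀ)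
        = incl (F := F) e * (M - 1) * ((incl (F := F) e)ᵀ * incl (F := F) e') * (N - 1) * (incl (F := F) e')ᵀ := by
          simp only [Matrix.mul_assoc]
      _ = 0 := by rw [h1]; simp
  have z2 : incl (F := F) e' * (N - 1) * (incl (F := F) e')ᵀ * (incl (F := F) e * (M - 1) * (incl (F := F) e)ᵀ) = 0 := by
    calc incl (F := F) e' * (N - 1) * (incl (F := F) e')ᵀ * (incl (F := F) e * (M - 1) * (incl (F := F) e)ᵀ)
        = incl (F := F) e' * (N - 1) * ((incl (F := F) e')ᵀ * incl (F := F) e) * (M - 1) * (incl (F := F) e)ᵀ := by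
          simp only [Matrix.mul_assoc]
      _ = 0 := by rw [h2]; simp
  rw [Matrix.add_mul, Matrix.mul_add, Matrix.mul_add, Matrix.add_mul, Matrix.mul_add, Matrix.mul_add, z1, z2]
  simp only [Matrix.one_mul, Matrix.mul_one]
  abel

lemma embSp_comm_of_disjoint {κ' : Type*} [DecidableEq κ'] [Fintype κ'] (e : κ ↪ l) (e' : κ' ↪ l)
    (h : ∀ a b, e a ≠ e' b) (M : symplecticGroup κ F) (N : symplecticGroup κ' F) :
    embSp e M * embSp e' N = embSp e' N * embSp e M := by
  apply Subtype.ext
  rw [coe_mul_sp, coe_mul_sp, embSp_coe, embSp_coe]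
  exact emb_comm_of_disjoint e e' h _ _

/-- the embedded matrices fix the basis vectors outside the range -/
lemma emb_mulVec_single_of_not_range (e : κ ↪ l) (M : Matrix (κ ⊕ κ) (κ ⊕ κ) F) {c : l ⊕ l}
    (hc : ∀ b, c ≠ Em e b) (t : F) : emb e M *ᵥ Pi.single c t = Pi.single c t := by
  unfold emb
  rw [Matrix.add_mulVec, Matrix.one_mulVec, ← Matrix.mulVec_mulVec]
  have : (incl (F := F) e)ᵀ *ᵥ Pi.single c t = 0 := by
    ext b
    simp only [Matrix.mulVec, dotProduct, Matrix.transpose_apply, incl_apply, Pi.single_apply, Pi.zero_apply]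
    apply Finset.sum_eq_zero
    intro x _
    by_cases hx : x = c
    · subst hx
      rw [if_neg (hc b), zero_mul]
    · rw [if_neg hx, mul_zero]
  rw [this, Matrix.mulVec_zero, add_zero]

/-- the embedded matrices act on the embedded basis vectors as the original matrices -/
lemma emb_mulVec_incl (e : κ ↪ l) (M : Matrix (κ ⊕ κ) (κ ⊕ κ) F) (v : κ ⊕ κ → F) :
    emb e M *ᵥ (incl (F := F) e *ᵥ v) = incl (F := F) e *ᵥ (M *ᵥ v) := by
  unfold emb
  rw [Matrix.add_mulVec, Matrix.one_mulVec, Matrix.mulVec_mulVec, Matrix.mul_assoc, Matrix.mul_assoc,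
    incl_tr_mul, Matrix.mul_one, ← Matrix.mulVec_mulVec, Matrix.sub_mulVec, Matrix.one_mulVec,
    Matrix.mulVec_sub]
  abel

lemma emb_mulVec_single_Em (e : κ ↪ l) (M : Matrix (κ ⊕ κ) (κ ⊕ κ) F) (c : κ ⊕ κ) (t : F) :
    emb e M *ᵥ Pi.single (Em e c) t = incl (F := F) e *ᵥ (M *ᵥ Pi.single c t) := by
  rw [← incl_mulVec_single, emb_mulVec_incl]

lemma emb_injective (e : κ ↪ l) : Function.Injective (emb (F := F) e) := by
  intro M N h
  unfold emb at h
  have h1 := add_left_cancel h
  have h2 : (incl (F := F) e)ᵀ * (incl (F := F) e * (M - 1) * (incl (F := F) e)ᵀ) * incl (F := F) e =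
      (incl (F := F) e)ᵀ * (incl (F := F) e * (N - 1) * (incl (F := F) e)ᵀ) * incl (F := F) e := by rw [h1]
  have h3 : ∀ A : Matrix (κ ⊕ κ) (κ ⊕ κ) F,
      (incl (F := F) e)ᵀ * (incl (F := F) e * A * (incl (F := F) e)ᵀ) * incl (F := F) e = A := by
    intro A
    calc (incl (F := F) e)ᵀ * (incl (F := F) e * A * (incl (F := F) e)ᵀ) * incl (F := F) e
        = ((incl (F := F) e)ᵀ * incl (F := F) e) * A * ((incl (F := F) e)ᵀ * incl (F := F) e) := by
          simp only [Matrix.mul_assoc]
      _ = A := by rw [incl_tr_mul, Matrix.one_mul, Matrix.mul_one]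
  rw [h3, h3] at h2
  exact sub_left_injective h2

lemma embSp_injective (e : κ ↪ l) : Function.Injective (embSp (F := F) e) := by
  intro M N h
  apply Subtype.ext
  apply emb_injective e
  have := congrArg Subtype.val h
  exact this


lemma eq_of_cols {n m : Type*} [Fintype m] [DecidableEq m] {M N : Matrix n m F}
    (h : ∀ c, M *ᵥ Pi.single c 1 = N *ᵥ Pi.single c 1) : M = N := by
  ext a b
  have := congrFun (h b) a
  simpa [Matrix.mulVec_single_one] using this

/-- an embedded permutation matrix is the permutation matrix of the extended permutation -/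
lemma emb_permM (e : κ ↪ l) (τ : Equiv.Perm κ) :
    emb e (permM (F := F) τ) = permM (F := F) (τ.viaEmbedding e) := by
  apply eq_of_cols
  intro c
  by_cases hc : ∃ b, c = Em e b
  · obtain ⟨b, rfl⟩ := hc
    rw [emb_mulVec_single_Em, permM_mulVec_single, incl_mulVec_single, permM_mulVec_single]
    congr 1
    rcases b with b | b
    · simp only [Em, Sum.map_inl, Equiv.Perm.viaEmbedding_apply]
    · simp only [Em, Sum.map_inr, Equiv.Perm.viaEmbedding_apply]
  · simp only [not_exists] at hc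
    rw [emb_mulVec_single_of_not_range e _ hc, permM_mulVec_single]
    congr 1
    rcases c with c | c
    · have hc' : c ∉ Set.range e := by
        rintro ⟨b, rfl⟩
        exact hc (Sum.inl b) rfl
      simp only [Sum.map_inl, Equiv.Perm.viaEmbedding_apply_of_notMem _ _ _ hc']
    · have hc' : c ∉ Set.range e := by
        rintro ⟨b, rfl⟩
        exact hc (Sum.inr b) rfl
      simp only [Sum.map_inr, Equiv.Perm.viaEmbedding_apply_of_notMem _ _ _ hc']

lemma embSp_permSp (e : κ ↪ l) (τ : Equiv.Perm κ) :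
    embSp e (permSp (F := F) τ) = permSp (F := F) (τ.viaEmbedding e) := by
  apply Subtype.ext
  rw [embSp_coe, permSp_coe, permSp_coe, emb_permM]


/-- two-point transitivity of the symmetric group, explicit -/
lemma exists_perm_two {p q i j : l} (hpq : p ≠ q) (hij : i ≠ j) : ∃ σ : Equiv.Perm l, σ p = i ∧ σ q = j := by
  refine ⟨Equiv.swap (Equiv.swap p i q) j * Equiv.swap p i, ?_, ?_⟩
  · rw [Equiv.Perm.mul_apply, Equiv.swap_apply_left]
    apply Equiv.swap_apply_of_ne_of_ne
    · intro h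
      have : Equiv.swap p i p = Equiv.swap p i q := by rw [Equiv.swap_apply_left]; exact h
      exact hpq ((Equiv.swap p i).injective this)
    · exact hij
  · rw [Equiv.Perm.mul_apply, Equiv.swap_apply_left]

/-- every root element of `Sp(l)` is a permutation conjugate of a root element of an embedded `Sp(κ)`, `|κ| ≥ 2` -/
lemma tm_mem_closure_perm_emb (e : κ ↪ l) {i₀ j₀ : κ} (h0 : i₀ ≠ j₀) {a b : l ⊕ l} (hab : a ≠ b) (t : F) :
    (tm a b t : symplecticGroup l F) ∈
      Subgroup.closure (Set.range (permSp (F := F) (l := l)) ∪ Set.range (embSp (F := F) e)) := by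
  set H := Subgroup.closure (Set.range (permSp (F := F) (l := l)) ∪ Set.range (embSp (F := F) e)) with hH
  have hP : ∀ σ : Equiv.Perm l, permSp (F := F) σ ∈ H := fun σ =>
    Subgroup.subset_closure (Or.inl ⟨σ, rfl⟩)
  have hE : ∀ M : symplecticGroup κ F, embSp e M ∈ H := fun M =>
    Subgroup.subset_closure (Or.inr ⟨M, rfl⟩)
  have key : ∀ (σ : Equiv.Perm l) (a' b' : κ ⊕ κ), a' ≠ b' →
      (tm (Sum.map σ σ (Em e a')) (Sum.map σ σ (Em e b')) t : symplecticGroup l F) ∈ H := by
    intro σ a' b' hab'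
    have hne : Em e a' ≠ Em e b' := fun h => hab' ((mat_Em_inj e).mp h)
    rw [← permSp_conj_tm σ hne, ← embSp_tm e hab']
    exact H.mul_mem (H.mul_mem (hP σ) (hE _)) (H.inv_mem (hP σ))
  have e0 : e i₀ ≠ e j₀ := fun h => h0 (e.injective h)
  -- the four shapes of `(a, b)`
  rcases a with i | i <;> rcases b with j | j
  · have hij : i ≠ j := fun h => hab (by rw [h])
    obtain ⟨σ, h1, h2⟩ := exists_perm_two e0 hij
    have := key σ (Sum.inl i₀) (Sum.inl j₀) (by simpa using h0)
    simpa [Em, h1, h2] using this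
  · by_cases hij : i = j
    · subst hij
      have := key (Equiv.swap (e i₀) i) (Sum.inl i₀) (Sum.inr i₀) (by simp)
      simpa [Em] using this
    · obtain ⟨σ, h1, h2⟩ := exists_perm_two e0 hij
      have := key σ (Sum.inl i₀) (Sum.inr j₀) (by simp)
      simpa [Em, h1, h2] using this
  · by_cases hij : i = j
    · subst hij
      have := key (Equiv.swap (e i₀) i) (Sum.inr i₀) (Sum.inl i₀) (by simp)
      simpa [Em] using this
    · obtain ⟨σ, h1, h2⟩ := exists_perm_two e0 hij
      have := key σ (Sum.inr i₀) (Sum.inl j₀) (by simp)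
      simpa [Em, h1, h2] using this
  · have hij : i ≠ j := fun h => hab (by rw [h])
    obtain ⟨σ, h1, h2⟩ := exists_perm_two e0 hij
    have := key σ (Sum.inr i₀) (Sum.inr j₀) (by simpa using h0)
    simpa [Em, h1, h2] using this

/-- `Sp(l)` is generated by the permutation matrices and an embedded `Sp(κ)`, `|κ| ≥ 2`, as soon as it is generated by its root elements -/
lemma closure_perm_emb_eq_top (e : κ ↪ l) {i₀ j₀ : κ} (h0 : i₀ ≠ j₀)
    (hgen : (matSys l F).XQ (fun _ _ => True) = ⊤) :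
    Subgroup.closure (Set.range (permSp (F := F) (l := l)) ∪ Set.range (embSp (F := F) e)) = ⊤ := by
  rw [eq_top_iff, ← hgen]
  unfold SysC.XQ
  rw [Subgroup.closure_le]
  rintro g ⟨a, b, t, hab, -, rfl⟩
  exact tm_mem_closure_perm_emb e h0 hab t

end Cfsg.Agent.Lib.helper3.STC.Mat
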