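import Mathlib
import Cfsg.Agent.Lib.Helper21.STCM.Emb
import Cfsg.Agent.Lib.Helper21.STCM.GenTop

/-!
# Project STC / SPM (helper3, S2292), block MAT part 8 (helper21): `Sp_2m(F)` is generated by `S_m` and one embedded `Sp(κ)`, `|κ| ≥ 2`
-/

set_option autoImplicit false

namespace Cfsg.Agent.Lib.helper3.STC.Mat

open Cfsg.Agent.Lib.helper3.STC

open Matrix

variable {κ : Type*} [DecidableEq κ] [Fintype κ] {F : Type*} [Field F]

/-- `Sp_2m(F)` is generated by the permutation matrices and an embedded `Sp(κ)` with `|κ| ≥ 2` (e.g. `Sp_4`) -/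
theorem closure_perm_emb_fin (m : ℕ) (e : κ ↪ Fin m) {i₀ j₀ : κ} (h0 : i₀ ≠ j₀) :
    Subgroup.closure (Set.range (permSp (F := F) (l := Fin m)) ∪ Set.range (embSp (F := F) e)) = ⊤ :=
  closure_perm_emb_eq_top e h0 (matSys_gen m)

end Cfsg.Agent.Lib.helper3.STC.Mat
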